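import Cfsg.Agent.H46.U6C.Model

/-!
The orders of the isometry groups are at most 40320 and 51840; a subgroup of order 25920 contains
all products of two reflections and is of minus type.
-/

set_option autoImplicit false
set_option maxRecDepth 100000
set_option Elab.async false

namespace H46.U6C

open H38.U6C

/-- The sum over the numbers below 64 with a property. -/
def sumIf (p : ℕ → Bool) (f : ℕ → ℕ) : ℕ :=
  ((List.range 64).map fun i => if p i then f i else 0).sum

theorem card_split {α : Type*} [DecidableEq α] (S : Finset α) (f : α → ℕ) (p : ℕ → Bool) (g : ℕ → ℕ)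
    (hp : ∀ x ∈ S, p (f x) = true ∧ f x < 64)
    (hb : ∀ i, p i = true → (S.filter fun x => f x = i).card ≤ g i) : S.card ≤ sumIf p g := by
  rw [Finset.card_eq_sum_card_fiberwise (f := f) (t := Finset.range 64)
    (fun x hx => Finset.mem_range.2 (hp x hx).2), sumIf]
  rw [show ((List.range 64).map fun i => if p i then g i else 0).sum =
    ∑ i ∈ Finset.range 64, (if p i then g i else 0) from rfl]
  refine Finset.sum_le_sum fun i _ => ?_
  split_ifs with h
  · exact hb i h
  · refine Nat.le_of_eq (Finset.card_eq_zero.2 (Finset.filter_eq_empty_iff.2 fun x hx e => h ?_))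
    exact e ▸ (hp x hx).1

/-- The basis. -/
def bas (j : ℕ) : V := ⟨2 ^ j % 256, Nat.mod_lt _ (by norm_num)⟩

/-- A number as a vector. -/
def mk (i : ℕ) : V := ⟨i % 256, Nat.mod_lt _ (by norm_num)⟩

/-- A possible image of the basis vector `k` after the given images. -/
def cand (s : Bool) (pre : List ℕ) (i : ℕ) : Bool :=
  (qm s (mk i) == qm s (bas pre.length)) &&
    (List.range pre.length).all fun j => polm s (mk (pre.getD j 0)) (mk i) == polm s (bas j) (bas pre.length)

/-- The number of images of the basis with the first two fixed. -/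
def count (s : Bool) : ℕ :=
  sumIf (cand s [1, 2]) fun c => sumIf (cand s [1, 2, c]) fun d =>
    sumIf (cand s [1, 2, c, d]) fun e => sumIf (cand s [1, 2, c, d, e]) fun _ => 1

theorem count_plus : count false = 72 := by decide +kernel
theorem count_minus : count true = 120 := by decide +kernel

theorem iso_polm {s : Bool} {σ : Equiv.Perm V} (h : IsIso s σ) {a b : V} (ha : a.val < 64)
    (hb : b.val < 64) : polm s (σ a) (σ b) = polm s a b := by
  have hab : (vadd a b).val < 64 := by
    show Nat.xor a.val b.val % 256 < 64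
    exact lt_of_le_of_lt (Nat.mod_le _ _) (Nat.xor_lt_two_pow (n := 6) ha hb)
  rw [polm, polm, ← h.add, h.form _ hab, h.form _ ha, h.form _ hb]

theorem bas_lt {j : ℕ} (hj : j < 6) : (bas j).val < 64 := by interval_cases j <;> decide

theorem eq_of_bas {σ τ : Equiv.Perm V} (hσ : ∀ a b, σ (vadd a b) = vadd (σ a) (σ b))
    (hτ : ∀ a b, τ (vadd a b) = vadd (τ a) (τ b)) (h : ∀ j < 8, σ (bas j) = τ (bas j)) : σ = τ := by
  have hdec : ∀ a : V, a = ((List.range 8).map fun j => if bit8 a j then bas j else 0).foldr vadd 0 := by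
    decide +kernel
  have h0 : σ 0 = τ 0 := by
    have e1 := hσ 0 0
    have e2 := hτ 0 0
    rw [vadd_self, vadd_self] at e1 e2
    rw [e1, e2]
  refine Equiv.ext fun a => ?_
  rw [hdec a]
  have : ∀ l : List ℕ, (∀ j ∈ l, j < 8) →
      σ ((l.map fun j => if bit8 a j then bas j else 0).foldr vadd 0) =
      τ ((l.map fun j => if bit8 a j then bas j else 0).foldr vadd 0) := by
    intro l
    induction l with
    | nil => intro _; exact h0
    | cons j l ih =>
      intro hl
      rw [List.map_cons, List.foldr_cons, hσ, hτ, ih fun i hi => hl i (List.mem_cons_of_mem _ hi)]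
      congr 1
      split_ifs
      · exact h j (hl j List.mem_cons_self)
      · exact h0
  exact this _ fun j hj => List.mem_range.1 hj

theorem card_fix_le (s : Bool) (S : Finset (Equiv.Perm V))
    (hS : ∀ σ ∈ S, IsIso s σ ∧ σ (bas 0) = bas 0 ∧ σ (bas 1) = bas 1) : S.card ≤ count s := by
  classical
  have hc : ∀ σ ∈ S, ∀ (pre : List ℕ), pre.length < 6 →
      (∀ j < pre.length, (σ (bas j)).val = pre.getD j 0) →
      cand s pre (σ (bas pre.length)).val = true ∧ (σ (bas pre.length)).val < 64 := by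
    intro σ hσ pre hk hpre
    have hI := (hS σ hσ).1
    refine ⟨?_, hI.low _ (bas_lt hk)⟩
    have hmk : ∀ v : V, mk v.val = v := fun v => Fin.ext (Nat.mod_eq_of_lt v.isLt)
    simp only [cand, Bool.and_eq_true, beq_iff_eq, List.all_eq_true, List.mem_range]
    refine ⟨by rw [hmk, hI.form _ (bas_lt hk)], fun j hj => ?_⟩
    rw [← hpre j hj, hmk, hmk, iso_polm hI (bas_lt (hj.trans hk)) (bas_lt hk)]
  have h0 : ∀ σ ∈ S, (σ (bas 0)).val = 1 := fun σ hσ => by rw [(hS σ hσ).2.1]; rfl
  have h1 : ∀ σ ∈ S, (σ (bas 1)).val = 2 := fun σ hσ => by rw [(hS σ hσ).2.2]; rfl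
  refine card_split S (fun σ => (σ (bas 2)).val) _ _ (fun σ hσ => hc σ hσ [1, 2] (by simp) fun j hj => ?_)
    fun c _ => ?_
  · simp at hj; interval_cases j
    exacts [h0 σ hσ, h1 σ hσ]
  refine card_split _ (fun σ => (σ (bas 3)).val) _ _ (fun σ hσ => ?_) fun d _ => ?_
  · simp only [Finset.mem_filter] at hσ
    refine hc σ hσ.1 [1, 2, c] (by simp) fun j hj => ?_
    simp at hj; interval_cases j
    exacts [h0 σ hσ.1, h1 σ hσ.1, hσ.2]
  refine card_split _ (fun σ => (σ (bas 4)).val) _ _ (fun σ hσ => ?_) fun e _ => ?_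
  · simp only [Finset.mem_filter] at hσ
    refine hc σ hσ.1.1 [1, 2, c, d] (by simp) fun j hj => ?_
    simp at hj; interval_cases j
    exacts [h0 σ hσ.1.1, h1 σ hσ.1.1, hσ.1.2, hσ.2]
  refine card_split _ (fun σ => (σ (bas 5)).val) _ _ (fun σ hσ => ?_) fun f _ => ?_
  · simp only [Finset.mem_filter] at hσ
    refine hc σ hσ.1.1.1 [1, 2, c, d, e] (by simp) fun j hj => ?_
    simp at hj; interval_cases j
    exacts [h0 σ hσ.1.1.1, h1 σ hσ.1.1.1, hσ.1.1.2, hσ.1.2, hσ.2]
  refine Finset.card_le_one.2 fun σ hσ τ hτ => ?_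
  simp only [Finset.mem_filter] at hσ hτ
  refine eq_of_bas (hS σ hσ.1.1.1.1).1.add (hS τ hτ.1.1.1.1).1.add fun j hj => ?_
  interval_cases j
  · exact (hS σ hσ.1.1.1.1).2.1.trans (hS τ hτ.1.1.1.1).2.1.symm
  · exact (hS σ hσ.1.1.1.1).2.2.trans (hS τ hτ.1.1.1.1).2.2.symm
  · exact Fin.ext (hσ.1.1.1.2.trans hτ.1.1.1.2.symm)
  · exact Fin.ext (hσ.1.1.2.trans hτ.1.1.2.symm)
  · exact Fin.ext (hσ.1.2.trans hτ.1.2.symm)
  · exact Fin.ext (hσ.2.trans hτ.2.symm)
  all_goals
    exact ((hS σ hσ.1.1.1.1).1.high _ (by decide)).trans ((hS τ hτ.1.1.1.1).1.high _ (by decide)).symm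

/-- The singular vectors. -/
def sing (s : Bool) : Finset V :=
  Finset.univ.filter fun v => v.val < 64 ∧ qm s v = false ∧ v ≠ 0

theorem exists_move : ∀ s, ∀ v ∈ sing s, ∃ a b : Fin 64,
    refm s ⟨a.val, by omega⟩ (refm s ⟨b.val, by omega⟩ v) = bas 0 := by decide +kernel

/-- The possible images of the second basis vector when the first is fixed. -/
def part (s : Bool) : Finset V :=
  Finset.univ.filter fun v => v.val < 64 ∧ qm s v = qm s (bas 1) ∧ polm s (bas 0) v = true

theorem exists_move_two : ∀ s, ∀ v ∈ part s, ∃ a b : Fin 64,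
    refm s ⟨a.val, by omega⟩ (bas 0) = bas 0 ∧ refm s ⟨b.val, by omega⟩ (bas 0) = bas 0 ∧
    refm s ⟨a.val, by omega⟩ (refm s ⟨b.val, by omega⟩ v) = bas 1 := by decide +kernel

theorem card_fix_one_le (s : Bool) (S : Finset (Equiv.Perm V))
    (hS : ∀ σ ∈ S, IsIso s σ ∧ σ (bas 0) = bas 0) : S.card ≤ (part s).card * count s := by
  classical
  have hmem : ∀ σ ∈ S, σ (bas 1) ∈ part s := by
    intro σ hσ
    obtain ⟨hI, h0⟩ := hS σ hσ
    simp only [part, Finset.mem_filter, Finset.mem_univ, true_and]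
    refine ⟨hI.low _ (bas_lt (by omega)), hI.form _ (bas_lt (by omega)), ?_⟩
    rw [← h0, iso_polm hI (bas_lt (by omega)) (bas_lt (by omega))]
    cases s <;> decide
  refine (Finset.card_le_mul_card_image_of_maps_to hmem (count s) fun v hv => ?_).trans_eq
    (Nat.mul_comm _ _)
  obtain ⟨a, b, ha, hb, hab⟩ := exists_move_two s v hv
  let w : Equiv.Perm V := reflm s ⟨a.val, by omega⟩ * reflm s ⟨b.val, by omega⟩
  have hw : IsIso s w := mul_mem (reflm_mem s _) (reflm_mem s _)
  have hw0 : w (bas 0) = bas 0 := by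
    show refm s _ (refm s _ (bas 0)) = bas 0
    rw [hb, ha]
  refine (Finset.card_le_card_of_injOn (fun σ => w * σ)
    (t := (Finset.univ.filter fun σ => σ ∈ isoGroup s ∧ σ (bas 0) = bas 0 ∧ σ (bas 1) = bas 1))
    (fun σ hσ => ?_) (fun σ _ τ _ e => mul_left_cancel e)).trans (card_fix_le s _ fun σ hσ => ?_)
  · simp only [Finset.coe_filter, Set.mem_setOf_eq, Finset.mem_univ, true_and] at hσ ⊢
    obtain ⟨hI, h0⟩ := hS σ hσ.1
    refine ⟨mul_mem hw hI, ?_, ?_⟩
    · show w (σ (bas 0)) = bas 0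
      rw [h0, hw0]
    · show w (σ (bas 1)) = bas 1
      rw [hσ.2]; exact hab
  · simp only [Finset.mem_filter, Finset.mem_univ, true_and] at hσ
    exact hσ

theorem card_iso_le (s : Bool) : Nat.card (isoGroup s) ≤ (sing s).card * ((part s).card * count s) := by
  classical
  let S : Finset (Equiv.Perm V) := Finset.univ.filter fun σ => σ ∈ isoGroup s
  have hmem : ∀ σ ∈ S, σ (bas 0) ∈ sing s := by
    intro σ hσ
    have hI : IsIso s σ := (Finset.mem_filter.1 hσ).2
    simp only [sing, Finset.mem_filter, Finset.mem_univ, true_and]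
    refine ⟨hI.low _ (by decide), (hI.form _ (by decide)).trans ?_, fun e => ?_⟩
    · cases s <;> decide
    · have := hI.high 0 (by decide)
      exact absurd (σ.injective (e.trans this.symm)) (by decide)
  have h1 : Nat.card (isoGroup s) = S.card := by
    rw [Nat.card_eq_fintype_card]
    exact Fintype.card_of_subtype _ (by simp [S])
  rw [h1]
  refine (Finset.card_le_mul_card_image_of_maps_to hmem ((part s).card * count s) fun v hv => ?_).trans_eq
    (Nat.mul_comm _ _)
  obtain ⟨a, b, hab⟩ := exists_move s v hv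
  let w : Equiv.Perm V := reflm s ⟨a.val, by omega⟩ * reflm s ⟨b.val, by omega⟩
  refine (Finset.card_le_card_of_injOn (fun σ => w * σ)
    (t := S.filter fun σ => σ (bas 0) = bas 0) (fun σ hσ => ?_)
    (fun σ _ τ _ e => mul_left_cancel e)).trans (card_fix_one_le s _ fun σ hσ => ?_)
  · simp only [Finset.coe_filter, Set.mem_setOf_eq, S, Finset.mem_filter, Finset.mem_univ,
      true_and] at hσ ⊢
    refine ⟨mul_mem (mul_mem (reflm_mem s _) (reflm_mem s _)) hσ.1, ?_⟩
    show w (σ (bas 0)) = bas 0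
    rw [hσ.2]; exact hab
  · simp only [S, Finset.mem_filter, Finset.mem_univ, true_and] at hσ
    exact hσ

theorem card_sing_plus : (sing false).card = 35 := by decide +kernel
theorem card_sing_minus : (sing true).card = 27 := by decide +kernel
theorem card_part_plus : (part false).card = 16 := by decide +kernel
theorem card_part_minus : (part true).card = 16 := by decide +kernel

/-- An isometry of plus type of order seven. -/
def seven : Equiv.Perm V :=
  reflm false 50 * reflm false 35 * reflm false 57 * reflm false 19 * reflm false 12 * reflm false 44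

theorem seven_mem : seven ∈ isoGroup false :=
  mul_mem (mul_mem (mul_mem (mul_mem (mul_mem (reflm_mem _ _) (reflm_mem _ _)) (reflm_mem _ _))
    (reflm_mem _ _)) (reflm_mem _ _)) (reflm_mem _ _)

theorem seven_pow (v : V) : (seven ^ 7) v = v := by
  have h := pow_mem seven_mem 7
  have hb : ∀ j : Fin 8, (seven ^ 7) (bas j.val) = bas j.val := by decide +kernel
  have e : seven ^ 7 = 1 := eq_of_bas (IsIso.add h) (fun _ _ => rfl) fun j hj => hb ⟨j, hj⟩
  rw [e]; rfl
theorem seven_ne : seven (bas 0) ≠ bas 0 ∨ seven (bas 2) ≠ bas 2 ∨ seven (bas 4) ≠ bas 4 := by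
  decide +kernel

theorem no_plus (K : Subgroup (Equiv.Perm V)) (hK : K ≤ isoGroup false) (hc : Nat.card K = 25920) :
    False := by
  have hle : Nat.card (isoGroup false) ≤ 40320 := by
    simpa [card_sing_plus, card_part_plus, count_plus] using card_iso_le false
  obtain ⟨k, hk⟩ := Subgroup.card_dvd_of_le hK
  rw [hc] at hk
  have hpos : 0 < Nat.card (isoGroup false) := Nat.card_pos
  have hk1 : k = 1 := by
    rcases k with _ | _ | k
    · omega
    · rfl
    · rw [hk] at hle; omega
  subst hk1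
  have h7 : orderOf seven = 7 := by
    haveI : Fact (Nat.Prime 7) := ⟨by norm_num⟩
    refine orderOf_eq_prime (Equiv.ext seven_pow) fun e => ?_
    rcases seven_ne with h | h | h <;> exact h (by rw [e]; rfl)
  have hd := Subgroup.orderOf_dvd_natCard _ seven_mem
  rw [h7, hk] at hd
  norm_num at hd

theorem refl8_eq (a : V) : refl8 a = reflm true a := Equiv.ext fun _ => rfl

theorem refl_conj {g : Equiv.Perm V} (hg : IsIso true g) {a : V} (ha : IsRefVec a) :
    g * refl8 a * g⁻¹ = refl8 (g a) := by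
  obtain ⟨ha1, ha2⟩ := ha
  have hga : IsRefVec (g a) := ⟨hg.low a ha1, by
    have := hg.form a ha1
    simp only [qm, if_true] at this
    rw [this, ha2]⟩
  have hsplit : ∀ u : V, u = vadd (mk (u.val % 64)) (mk (u.val / 64 * 64)) := by decide +kernel
  have hbit : ∀ x : V, x.val % 64 = 0 → ∀ i : Fin 6, bit8 x i.val = false := by decide +kernel
  have hpoll : ∀ s, ∀ u x : V, x.val % 64 = 0 → polm s u x = false := fun s u x hx => by
    simp [polm_formula, show bit8 x 0 = false from hbit x hx 0, show bit8 x 1 = false from hbit x hx 1,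
      show bit8 x 2 = false from hbit x hx 2, show bit8 x 3 = false from hbit x hx 3,
      show bit8 x 4 = false from hbit x hx 4, show bit8 x 5 = false from hbit x hx 5]
  have hlow : ∀ u : V, (mk (u.val % 64)).val < 64 ∧ (mk (u.val / 64 * 64)).val % 64 = 0 := by
    decide +kernel
  refine Equiv.ext fun v => ?_
  obtain ⟨u, rfl⟩ : ∃ u, g u = v := ⟨g⁻¹ v, g.apply_symm_apply v⟩
  rw [Equiv.Perm.mul_apply, Equiv.Perm.mul_apply, show g⁻¹ (g u) = u from g.symm_apply_apply u]
  show g (refFun a u) = refFun (g a) (g u)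
  have hp : pol6 (g a) (g u) = pol6 a u := by
    show polm true (g a) (g u) = polm true a u
    rw [hsplit u, hg.add, hg.high _ (hlow u).2, polm_add, polm_add,
      hpoll _ _ _ (hlow u).2, hpoll _ _ _ (hlow u).2, iso_polm hg ha1 (hlow u).1]
  rw [refFun, refFun, hp]
  by_cases h : pol6 a u = true
  · rw [if_pos ⟨⟨ha1, ha2⟩, h⟩, if_pos ⟨hga, h⟩, hg.add]
  · rw [if_neg fun h' => h h'.2, if_neg fun h' => h h'.2]

/-- Reflection vectors are linked by non-perpendicularity to a fixed one. -/
theorem linked : ∀ a : Fin 64, IsRefVec ⟨a.val, by omega⟩ →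
    a = 16 ∨ pol6 ⟨a.val, by omega⟩ 16 = true ∨
    ∃ c : Fin 64, IsRefVec ⟨c.val, by omega⟩ ∧ pol6 ⟨a.val, by omega⟩ ⟨c.val, by omega⟩ = true ∧
      pol6 ⟨c.val, by omega⟩ 16 = true := by decide +kernel

theorem step_vec : ∀ a b : Fin 64, IsRefVec ⟨a.val, by omega⟩ → IsRefVec ⟨b.val, by omega⟩ →
    pol6 ⟨a.val, by omega⟩ ⟨b.val, by omega⟩ = true →
    refl8 (vadd ⟨a.val, by omega⟩ ⟨b.val, by omega⟩) ⟨a.val, by omega⟩ = ⟨b.val, by omega⟩ := by
  decide +kernel

theorem refl_isConj {a b : V} (ha : IsRefVec a) (hb : IsRefVec b) :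
    ∃ g ∈ isoGroup true, g * refl8 a * g⁻¹ = refl8 b := by
  have one : ∀ x y : V, IsRefVec x → IsRefVec y → pol6 x y = true →
      ∃ g ∈ isoGroup true, g x = y := fun x y hx hy hp =>
    ⟨refl8 (vadd x y), refl8_eq (vadd x y) ▸ reflm_mem _ _,
      step_vec ⟨x.val, hx.1⟩ ⟨y.val, hy.1⟩ hx hy hp⟩
  have base : ∀ x : V, IsRefVec x → ∃ g ∈ isoGroup true, g x = 16 := by
    intro x hx
    rcases linked ⟨x.val, hx.1⟩ hx with h | h | ⟨c, hc, h1, h2⟩
    · exact ⟨1, one_mem _, Fin.ext (by simpa using congrArg Fin.val h)⟩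
    · exact one x 16 hx (by decide) h
    · obtain ⟨g, hg, e⟩ := one x _ hx hc h1
      obtain ⟨g', hg', e'⟩ := one _ 16 hc (by decide) h2
      exact ⟨g' * g, mul_mem hg' hg, by rw [Equiv.Perm.mul_apply, e, e']⟩
  have key : ∃ g ∈ isoGroup true, g a = b := by
    obtain ⟨g, hg, e⟩ := base a ha
    obtain ⟨g', hg', e'⟩ := base b hb
    exact ⟨g'⁻¹ * g, mul_mem (inv_mem hg') hg, by
      rw [Equiv.Perm.mul_apply, e, ← e']; exact g'.symm_apply_apply b⟩
  obtain ⟨g, hg, e⟩ := key
  exact ⟨g, hg, by rw [refl_conj hg ha, e]⟩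

theorem oGroup_le (K : Subgroup (Equiv.Perm V)) (hK : K ≤ isoGroup true) (hc : Nat.card K = 25920) :
    oGroup ≤ K := by
  have hle : Nat.card (isoGroup true) ≤ 51840 := by
    simpa [card_sing_minus, card_part_minus, count_minus] using card_iso_le true
  have hidx := Subgroup.card_mul_index (K.subgroupOf (isoGroup true))
  rw [Nat.card_congr (Subgroup.subgroupOfEquivOfLe hK).toEquiv, hc] at hidx
  have hi : (K.subgroupOf (isoGroup true)).index ≤ 2 := by omega
  have h0 : (K.subgroupOf (isoGroup true)).index ≠ 0 := Subgroup.index_ne_zero_of_finite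
  refine (Subgroup.closure_le _).2 ?_
  rintro _ ⟨a, b, ha, hb, rfl⟩
  obtain ⟨g, hg, e⟩ := refl_isConj ha hb
  have hma : refl8 a ∈ isoGroup true := refl8_eq a ▸ reflm_mem _ _
  have hmb : refl8 b ∈ isoGroup true := refl8_eq b ▸ reflm_mem _ _
  show refl8 a * refl8 b ∈ K
  suffices h : (⟨refl8 a, hma⟩ * ⟨refl8 b, hmb⟩ : isoGroup true) ∈ K.subgroupOf (isoGroup true) from h
  rcases (show (K.subgroupOf (isoGroup true)).index = 1 ∨ (K.subgroupOf (isoGroup true)).index = 2 by
    omega) with h1 | h2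
  · rw [Subgroup.index_eq_one.1 h1]; exact Subgroup.mem_top _
  · haveI : (K.subgroupOf (isoGroup true)).Normal := Subgroup.normal_of_index_eq_two h2
    have e' : (⟨g, hg⟩ * ⟨refl8 a, hma⟩ * ⟨g, hg⟩⁻¹ : isoGroup true) = ⟨refl8 b, hmb⟩ := Subtype.ext e
    rw [Subgroup.mul_mem_iff_of_index_two h2, ← e']
    exact ⟨fun h => Subgroup.Normal.conj_mem ‹_› _ h _, fun h => by
      have := Subgroup.Normal.conj_mem ‹_› _ h (⟨g, hg⟩⁻¹)
      rwa [show (⟨g, hg⟩⁻¹ * (⟨g, hg⟩ * ⟨refl8 a, hma⟩ * ⟨g, hg⟩⁻¹) * (⟨g, hg⟩⁻¹)⁻¹ : isoGroup true) =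
        ⟨refl8 a, hma⟩ by group] at this⟩

theorem oGroup_le_iso : oGroup ≤ isoGroup true := by
  refine (Subgroup.closure_le _).2 ?_
  rintro _ ⟨a, b, -, -, rfl⟩
  exact mul_mem (refl8_eq a ▸ reflm_mem _ _) (refl8_eq b ▸ reflm_mem _ _)

theorem oGroup_ne_bot : oGroup ≠ ⊥ := by
  intro h
  have hm : refl8 16 * refl8 32 ∈ oGroup :=
    Subgroup.subset_closure ⟨16, 32, by decide, by decide, rfl⟩
  rw [h, Subgroup.mem_bot] at hm
  have := Equiv.congr_fun hm 16
  revert this
  decide +kernel

theorem oGroup_normal {g : Equiv.Perm V} (hg : IsIso true g) {x : Equiv.Perm V} (hx : x ∈ oGroup) :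
    g * x * g⁻¹ ∈ oGroup := by
  have : oGroup ≤ oGroup.comap (MulAut.conj g).toMonoidHom := by
    refine (Subgroup.closure_le _).2 ?_
    rintro _ ⟨a, b, ha, hb, rfl⟩
    show g * (refl8 a * refl8 b) * g⁻¹ ∈ oGroup
    have hm : ∀ c, IsRefVec c → IsRefVec (g c) := fun c hc => ⟨hg.low c hc.1, by
      have := hg.form c hc.1
      simp only [qm, if_true] at this
      rw [this, hc.2]⟩
    rw [show g * (refl8 a * refl8 b) * g⁻¹ = g * refl8 a * g⁻¹ * (g * refl8 b * g⁻¹) by group,
      refl_conj hg ha, refl_conj hg hb]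
    exact Subgroup.subset_closure ⟨_, _, hm a ha, hm b hb, rfl⟩
  exact this hx

/-- A simple group of order 25920 of isometries is the group of products of two reflections. -/
theorem eq_oGroup (K : Subgroup (Equiv.Perm V)) (hK : K ≤ isoGroup true) (hc : Nat.card K = 25920)
    (hs : IsSimpleGroup K) : K = oGroup := by
  have hle := oGroup_le K hK hc
  have hn : (oGroup.subgroupOf K).Normal := ⟨fun x hx g => oGroup_normal (hK g.2) hx⟩
  rcases hn.eq_bot_or_eq_top with h | h
  · rw [Subgroup.subgroupOf_eq_bot] at h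
    exact absurd (disjoint_self.1 (h.mono_right hle)) oGroup_ne_bot
  · exact le_antisymm (Subgroup.subgroupOf_eq_top.1 h) hle

end H46.U6C
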