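import Cfsg.Agent.H46.U6C.Coords
import Cfsg.Agent.H46.U6C.Count
import Cfsg.Agent.H38.U6C.Stmts
import Cfsg.Agent.H48.Simple

/-!
The involution centraliser with a fixed plane, read on the model.
-/

set_option autoImplicit false
set_option maxRecDepth 4000

namespace H46.U6C

open H38.U6C
open scoped Classical

universe u v

theorem ext_of_base {G : Type u} [Group G] {F : Type v} [Field F] [Fintype F] {z : G} {J : Subgroup G}
    {π : ↥(Subgroup.centralizer ({z} : Set G)) →* Cfsg.PSp 2 F} (B : Base z J π) : Ext z J where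
  sq := B.sq
  ne_one := B.ne_one
  z_mem := B.z_mem
  comm_z a ha := Subgroup.mem_centralizer_iff.1 (B.le_cent ha) z rfl
  card_J := B.card_J
  sq_mem := B.sq_mem
  comm_mem := B.comm_mem
  center := B.center

/-- The number with the given bits. -/
def ofBits (f : Fin 8 → Bool) : V :=
  lin unit8 ⟨(∑ i : Fin 8, if f i then 2 ^ i.val else 0) % 256, Nat.mod_lt _ (by norm_num)⟩

theorem bit8_ofBits : ∀ f : Fin 8 → Bool, ∀ i : Fin 8, bit8 (ofBits f) i.val = f i := by decide +kernel

/-- The partner in a pair. -/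
def prt (i : ℕ) : ℕ := if i % 2 = 0 then i + 1 else i - 1

variable {G : Type u} [Group G] {z : G} {J : Subgroup G}

/-- The coordinates with respect to a symplectic basis. -/
noncomputable def coord0 (ε : ℕ → G) (a : G) : V := ofBits fun i => cb a (ε (prt i.val))

theorem prt_lt : ∀ i, i < 8 → prt i < 8 := by unfold prt; intro i hi; split <;> omega

theorem coord0_mul (h : Ext z J) {ε : ℕ → G} (hε : ∀ i < 8, ε i ∈ J) {a b : G} (ha : a ∈ J) (hb : b ∈ J) :
    coord0 ε (a * b) = vadd (coord0 ε a) (coord0 ε b) := ext8 fun i hi => by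
  simp only [coord0, bit8_vadd, bit8_ofBits _ ⟨i, hi⟩]
  exact cb_mul_left h (hε _ (prt_lt i hi)) ha hb

theorem coord0_unit {ε : ℕ → G} (hpat : ∀ i < 8, ∀ j < 8, cb (ε i) (ε j) = polF (unit8 i) (unit8 j))
    {j : ℕ} (hj : j < 8) : coord0 ε (ε j) = unit8 j := ext8 fun i hi => by
  simp only [coord0, bit8_ofBits _ ⟨i, hi⟩]
  rw [hpat j hj _ (prt_lt i hi)]
  have key : ∀ j i : Fin 8, polF (unit8 j.val) (unit8 (prt i.val)) = bit8 (unit8 j.val) i.val := by
    decide +kernel
  exact key ⟨j, hj⟩ ⟨i, hi⟩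

/-- The product of the basis elements named by the bits. -/
noncomputable def prodB (ε : ℕ → G) (v : V) : G :=
  ((List.range 8).map fun j => if bit8 v j then ε j else 1).prod

theorem prodB_spec (h : Ext z J) {ε : ℕ → G} (hε : ∀ i < 8, ε i ∈ J)
    (hpat : ∀ i < 8, ∀ j < 8, cb (ε i) (ε j) = polF (unit8 i) (unit8 j)) (v : V) :
    prodB ε v ∈ J ∧ coord0 ε (prodB ε v) = v := by
  conv => arg 2; rhs; rw [← lin_unit v]
  unfold prodB lin
  have hl : ∀ j ∈ List.range 8, j < 8 := fun j hj => List.mem_range.1 hj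
  generalize List.range 8 = l at hl
  induction l with
  | nil =>
    refine ⟨one_mem _, ext8 fun i hi => ?_⟩
    simp only [List.map_nil, List.prod_nil, coord0, bit8_ofBits _ ⟨i, hi⟩]
    rw [cb_comm, cb_one]; simp [bit8]
  | cons j l ih =>
    obtain ⟨h1, h2⟩ := ih fun i hi => hl i (List.mem_cons_of_mem _ hi)
    rw [List.map_cons, List.prod_cons, List.map_cons, List.foldr_cons]
    have hm : (if bit8 v j then ε j else 1) ∈ J := by
      split; exacts [hε j (hl j List.mem_cons_self), one_mem _]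
    refine ⟨mul_mem hm h1, ?_⟩
    rw [coord0_mul h hε hm h1, h2]
    congr 1
    split
    · exact coord0_unit hpat (hl j List.mem_cons_self)
    · exact ext8 fun i hi => by
        simp only [coord0, bit8_ofBits _ ⟨i, hi⟩]
        rw [cb_comm, cb_one]; simp [bit8]

theorem coord0_ker (h : Ext z J) [Finite G] {ε : ℕ → G} (hε : ∀ i < 8, ε i ∈ J)
    (hpat : ∀ i < 8, ∀ j < 8, cb (ε i) (ε j) = polF (unit8 i) (unit8 j)) :
    ∀ a ∈ J, (coord0 ε a = 0 ↔ a = 1 ∨ a = z) := by
  haveI : Fintype G := Fintype.ofFinite G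
  have hfwd : ∀ a, a = 1 ∨ a = z → coord0 ε a = 0 := by
    intro a ha
    refine ext8 fun i hi => ?_
    simp only [coord0, bit8_ofBits _ ⟨i, hi⟩]
    rcases ha with rfl | rfl
    · rw [cb_comm, cb_one]; simp [bit8]
    · rw [cb_comm, cb_z h (hε _ (prt_lt i hi))]; simp [bit8]
  intro a ha
  refine ⟨fun h0 => ?_, hfwd a⟩
  by_contra hno
  let C : Finset J := Finset.univ.filter fun x => coord0 ε (x : G) = 0
  have h3 : 3 ≤ C.card := by
    have hs : ({1, ⟨z, h.z_mem⟩, ⟨a, ha⟩} : Finset J) ⊆ C := by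
      intro x hx
      simp only [Finset.mem_insert, Finset.mem_singleton] at hx
      simp only [C, Finset.mem_filter, Finset.mem_univ, true_and]
      rcases hx with rfl | rfl | rfl
      exacts [hfwd _ (Or.inl rfl), hfwd _ (Or.inr rfl), h0]
    refine le_trans (le_of_eq ?_) (Finset.card_le_card hs)
    rw [Finset.card_insert_of_notMem, Finset.card_insert_of_notMem, Finset.card_singleton]
    · simp only [Finset.mem_singleton, Subtype.ext_iff]
      exact fun e => hno (Or.inr e.symm)
    · simp only [Finset.mem_insert, Finset.mem_singleton, Subtype.ext_iff, Subgroup.coe_one]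
      rintro (e | e)
      exacts [h.ne_one e.symm, hno (Or.inl e.symm)]
  have hinj : (C ×ˢ (Finset.univ : Finset V)).card ≤ (Finset.univ : Finset J).card := by
    refine Finset.card_le_card_of_injOn
      (fun q => q.1 * ⟨prodB ε q.2, (prodB_spec h hε hpat q.2).1⟩) (fun _ _ => Finset.mem_coe.2 (Finset.mem_univ _)) ?_
    rintro ⟨x, v⟩ hx ⟨y, w⟩ hy e
    simp only [Finset.coe_product, Set.mem_prod, Finset.mem_coe, C, Finset.mem_filter,
      Finset.mem_univ, true_and, and_true] at hx hy
    have e' : (x : G) * prodB ε v = (y : G) * prodB ε w := congrArg Subtype.val e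
    have hv : v = w := by
      have := congrArg (coord0 ε) e'
      rw [coord0_mul h hε x.2 (prodB_spec h hε hpat v).1, coord0_mul h hε y.2 (prodB_spec h hε hpat w).1,
        hx, hy, (prodB_spec h hε hpat v).2, (prodB_spec h hε hpat w).2, vadd_comm, vadd_zero,
        vadd_comm, vadd_zero] at this
      exact this
    subst hv
    exact Prod.ext (Subtype.ext (mul_right_cancel e')) rfl
  rw [Finset.card_product, Finset.card_univ, Finset.card_univ, Fintype.card_fin,
    show Fintype.card J = 512 by rw [← Nat.card_eq_fintype_card, h.card_J]; norm_num] at hinj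
  omega

theorem coord0_cb (h : Ext z J) [Finite G] {ε : ℕ → G} (hε : ∀ i < 8, ε i ∈ J)
    (hpat : ∀ i < 8, ∀ j < 8, cb (ε i) (ε j) = polF (unit8 i) (unit8 j)) {a b : G} (ha : a ∈ J)
    (hb : b ∈ J) : cb a b = polF (coord0 ε a) (coord0 ε b) := by
  have hcut : ∀ x ∈ J, ∀ y ∈ J, cb x y = cb (prodB ε (coord0 ε x)) y := by
    intro x hx y hy
    obtain ⟨hm, he⟩ := prodB_spec h hε hpat (coord0 ε x)
    have hk : coord0 ε (x * prodB ε (coord0 ε x)) = 0 := by
      rw [coord0_mul h hε hx hm, he, vadd_self]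
    have := cb_mul_left h hy hx hm
    rcases (coord0_ker h hε hpat _ (mul_mem hx hm)).1 hk with e | e <;> rw [e] at this
    · rw [cb_comm, cb_one] at this
      revert this; cases cb x y <;> cases cb (prodB ε (coord0 ε x)) y <;> simp
    · rw [cb_comm, cb_z h hy] at this
      revert this; cases cb x y <;> cases cb (prodB ε (coord0 ε x)) y <;> simp
  rw [hcut a ha b hb, cb_comm, hcut b hb _ (prodB_spec h hε hpat _).1]
  generalize coord0 ε b = w
  generalize coord0 ε a = v
  rw [polF_comm]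
  have hcl : ∀ v w x, cb (prodB ε (vadd v w)) (prodB ε x) =
      (cb (prodB ε v) (prodB ε x) != cb (prodB ε w) (prodB ε x)) := by
    intro v w x
    have h1 := prodB_spec h hε hpat v
    have h2 := prodB_spec h hε hpat w
    have h3 := prodB_spec h hε hpat x
    have h4 := prodB_spec h hε hpat (vadd v w)
    rw [← cb_mul_left h h3.1 h1.1 h2.1, hcut _ (mul_mem h1.1 h2.1) _ h3.1, coord0_mul h hε h1.1 h2.1,
      h1.2, h2.2]
  refine additive_eq (f := fun x => cb (prodB ε x) (prodB ε v)) (g := fun x => polF x v)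
    (fun x y => hcl x y v) (fun x y => polF_add_left x y v) (fun i hi => ?_) w
  refine additive_eq (f := fun x => cb (prodB ε (unit8 i)) (prodB ε x)) (g := fun x => polF (unit8 i) x)
    (fun x y => ?_) (fun x y => polF_add _ x y) (fun j hj => ?_) v
  · show cb _ _ = _
    rw [cb_comm, hcl, cb_comm, cb_comm (prodB ε y)]
  · show cb _ _ = _
    rw [← coord0_unit hpat hi, ← coord0_unit hpat hj, ← hcut _ (hε i hi) _ (prodB_spec h hε hpat _).1,
      cb_comm, ← hcut _ (hε j hj) _ (hε i hi), cb_comm, hpat i hi j hj, coord0_unit hpat hi,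
      coord0_unit hpat hj]

theorem coord0_qb (h : Ext z J) [Finite G] {ε : ℕ → G} (hε : ∀ i < 8, ε i ∈ J)
    (hpat : ∀ i < 8, ∀ j < 8, cb (ε i) (ε j) = polF (unit8 i) (unit8 j)) {a : G} (ha : a ∈ J) :
    qb a = qb (prodB ε (coord0 ε a)) := by
  obtain ⟨hm, he⟩ := prodB_spec h hε hpat (coord0 ε a)
  have hk : coord0 ε (a * prodB ε (coord0 ε a)) = 0 := by rw [coord0_mul h hε ha hm, he, vadd_self]
  have h1 := qb_mul h ha hm
  rw [coord0_cb h hε hpat ha hm, he] at h1
  have h0 : polF (coord0 ε a) (coord0 ε a) = false := by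
    rw [← coord0_cb h hε hpat ha ha, cb_self]
  rw [h0] at h1
  rcases (coord0_ker h hε hpat _ (mul_mem ha hm)).1 hk with e | e <;> rw [e] at h1
  · rw [qb_one] at h1; revert h1; cases qb a <;> cases qb (prodB ε (coord0 ε a)) <;> simp
  · rw [qb_z h] at h1; revert h1; cases qb a <;> cases qb (prodB ε (coord0 ε a)) <;> simp

/-- The centraliser does not fix every coset of `⟨z⟩` in the core. -/
theorem not_trivial_action [Finite G] {F : Type v} [Field F] [Fintype F]
    {π : ↥(Subgroup.centralizer ({z} : Set G)) →* Cfsg.PSp 2 F} (B : Base z J π)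
    (hfix : ∀ g ∈ Subgroup.centralizer ({z} : Set G), ∀ j ∈ J,
      g * j * g⁻¹ = j ∨ g * j * g⁻¹ = j * z) : False := by
  -- an element of order three centralises `J`
  haveI : Fact (Nat.Prime 3) := ⟨Nat.prime_three⟩
  haveI : Finite ↥(Subgroup.centralizer ({z} : Set G)) := inferInstance
  obtain ⟨c, hc⟩ := exists_prime_orderOf_dvd_card' (G := ↥(Subgroup.centralizer ({z} : Set G))) 3
    (by rw [B.card_cent]; norm_num)
  have h3 : ((c : G)) ^ 3 = 1 := by
    rw [← Subgroup.coe_pow, ← hc, pow_orderOf_eq_one, Subgroup.coe_one]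
  have hcz : (c : G) * z = z * (c : G) := (Subgroup.mem_centralizer_iff.1 c.2 z rfl).symm
  have hcent : ∀ j ∈ J, Commute (c : G) j := by
    intro j hj
    rcases hfix _ c.2 j hj with e | e
    · exact mul_inv_eq_iff_eq_mul.1 e
    · exfalso
      have e' : (c : G) * j = j * z * (c : G) := mul_inv_eq_iff_eq_mul.1 e
      have e2 : (c : G) * ((c : G) * j) = j * ((c : G) * (c : G)) := by
        rw [e', ← mul_assoc, ← mul_assoc, e', mul_assoc (j * z) _ z, hcz]
        rw [show j * z * (z * (c : G)) = j * (z * z) * (c : G) by group, B.sq, mul_one, mul_assoc]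
      have e3 : (c : G) * ((c : G) * ((c : G) * j)) = j * z * ((c : G) * ((c : G) * (c : G))) := by
        rw [e2, ← mul_assoc, e', mul_assoc]
      have h3' : (c : G) * ((c : G) * (c : G)) = 1 := by
        rw [← h3, pow_succ, pow_two, mul_assoc]
      rw [h3', mul_one, ← mul_assoc (c : G), ← mul_assoc, mul_assoc (c : G) (c : G), h3', one_mul] at e3
      exact B.ne_one (mul_eq_left.1 e3.symm)
  have hcJ := B.self_cent _ c.2 hcent
  have hd : 3 ∣ Nat.card J := by
    rw [← hc, ← Subgroup.orderOf_coe c]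
    exact Subgroup.orderOf_dvd_natCard J hcJ
  rw [B.card_J] at hd
  norm_num at hd

/-- The code of the squares of the basis. -/
noncomputable def sqCode (ε : ℕ → G) : Fin 256 := ofBits fun i => qb (ε i.val)

theorem fix8 : H38.U6C.Fix8Stmt.{u, v} := by
  intro G _ _ F _ _ z J U π B X
  have h := ext_of_base B
  obtain ⟨ε, hε, hε6, hε7, hpat⟩ := exists_basis h X.le X.card X.nondeg
  set p : Fin 256 := sqCode ε with hp
  set s := sType p.val
  set m := mType p.val
  let φ : G → V := fun a => chg p.val (coord0 ε a)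
  have hq : ∀ a ∈ J, qt s m (φ a) = qb a := fun a ha => by
    rw [qt_of_squares p (f := fun v => qb (prodB ε v)) (fun x y => ?_) (fun j hj => ?_)]
    · exact (coord0_qb h hε hpat ha).symm
    · have h1 := prodB_spec h hε hpat x
      have h2 := prodB_spec h hε hpat y
      have := coord0_qb h hε hpat (mul_mem h1.1 h2.1)
      rw [coord0_mul h hε h1.1 h2.1, h1.2, h2.2] at this
      show qb (prodB ε (vadd x y)) = _
      rw [← this, qb_mul h h1.1 h2.1, coord0_cb h hε hpat h1.1 h2.1, h1.2, h2.2]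
    · have := coord0_qb h hε hpat (hε j hj)
      rw [coord0_unit hpat hj] at this
      show qb (prodB ε (unit8 j)) = p.val.testBit j
      rw [← this]
      exact (bit8_ofBits (fun i => qb (ε i.val)) ⟨j, hj⟩).symm
  have hcb : ∀ a ∈ J, ∀ b ∈ J, cb a b = polF (φ a) (φ b) := fun a ha b hb => by
    rw [chg_polF]; exact coord0_cb h hε hpat ha hb
  have hmul : ∀ a ∈ J, ∀ b ∈ J, φ (a * b) = vadd (φ a) (φ b) := fun a ha b hb => by
    show chg p.val _ = _
    rw [coord0_mul h hε ha hb, chg, lin_add]; rfl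
  have hsurj : ∀ v, ∃ a ∈ J, φ a = v := fun v => by
    obtain ⟨w, rfl⟩ := (chg_bijective p).2 v
    exact ⟨_, (prodB_spec h hε hpat w).1, by show chg p.val _ = _; rw [(prodB_spec h hε hpat w).2]⟩
  have hφ1 : φ 1 = 0 := by
    have := hmul 1 (one_mem _) 1 (one_mem _)
    rw [one_mul, vadd_self] at this
    exact this
  have hker : ∀ a ∈ J, (φ a = 0 ↔ a = 1 ∨ a = z) := fun a ha => by
    rw [← coord0_ker h hε hpat a ha]
    refine ⟨fun e => chg_injective p ?_, fun e => ?_⟩
    · have h0 : chg p.val (coord0 ε 1) = 0 := hφ1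
      rw [show chg p.val (coord0 ε a) = 0 from e]
      rw [(coord0_ker h hε hpat 1 (one_mem _)).2 (Or.inl rfl)] at h0
      exact h0.symm
    · show chg p.val _ = 0
      have h0 : chg p.val (coord0 ε 1) = 0 := hφ1
      rw [(coord0_ker h hε hpat 1 (one_mem _)).2 (Or.inl rfl)] at h0
      rw [e]; exact h0
  have heq : ∀ a ∈ J, ∀ b ∈ J, φ a = φ b → b = a ∨ b = a * z := fun a ha b hb e => by
    have : φ (a⁻¹ * b) = 0 := by
      have e2 := hmul a⁻¹ (inv_mem ha) a ha
      rw [inv_mul_cancel, hφ1] at e2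
      rw [hmul _ (inv_mem ha) _ hb, ← e, ← e2]
    rcases (hker _ (mul_mem (inv_mem ha) hb)).1 this with e1 | e1
    · exact Or.inl (inv_mul_eq_one.1 e1).symm
    · exact Or.inr (inv_mul_eq_iff_eq_mul.1 e1)
  -- the action
  choose pre hpre hφpre using hsurj
  let Hc := ↥(Subgroup.centralizer ({z} : Set G))
  let act : Hc → V → V := fun g v => φ ((g : G) * pre v * (g : G)⁻¹)
  have hact : ∀ (g : Hc) (j : G), j ∈ J → φ ((g : G) * j * (g : G)⁻¹) = act g (φ j) := by
    intro g j hj
    rcases heq _ (hpre (φ j)) j hj (hφpre _) with e | e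
    · show φ _ = φ ((g : G) * pre (φ j) * (g : G)⁻¹)
      rw [← e]
    · show φ _ = φ ((g : G) * pre (φ j) * (g : G)⁻¹)
      have hgz : (g : G) * z * (g : G)⁻¹ = z := by
        rw [← Subgroup.mem_centralizer_iff.1 g.2 z rfl, mul_inv_cancel_right]
      conv_lhs => rw [e, show (g : G) * (pre (φ j) * z) * (g : G)⁻¹ =
        ((g : G) * pre (φ j) * (g : G)⁻¹) * ((g : G) * z * (g : G)⁻¹) by group, hgz]
      rw [hmul _ (B.conj_mem _ g.2 _ (hpre _)) _ B.z_mem, (hker z B.z_mem).2 (Or.inr rfl), vadd_zero]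
  have hact1 : ∀ v, act 1 v = v := fun v => by
    show φ (_) = v; simp [hφpre]
  have hactm : ∀ g k v, act (g * k) v = act g (act k v) := fun g k v => by
    rw [show act k v = φ ((k : G) * pre v * (k : G)⁻¹) from rfl,
      ← hact g _ (B.conj_mem _ k.2 _ (hpre v))]
    show φ _ = φ _
    congr 1
    rw [Subgroup.coe_mul, mul_inv_rev]
    simp [mul_assoc]
  let ρ : Hc →* Equiv.Perm V :=
    { toFun := fun g => ⟨act g, act g⁻¹, fun v => by rw [← hactm, inv_mul_cancel, hact1],
        fun v => by rw [← hactm, mul_inv_cancel, hact1]⟩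
      map_one' := Equiv.ext hact1
      map_mul' := fun g k => Equiv.ext (hactm g k) }
  have hρ : ∀ (g : Hc) (v : V), ρ g v = act g v := fun _ _ => rfl
  have hρker : ∀ g : Hc, ρ g = 1 ↔ (g : G) ∈ J := by
    -- the kernel is a normal subgroup
    have hJker : ∀ g : Hc, (g : G) ∈ J → ρ g = 1 := fun g hg => Equiv.ext fun v => by
      rw [hρ]; show φ _ = v
      have h2 := hmul _ (mul_mem hg (hpre v)) _ (inv_mem hg)
      have h3 := hmul _ (inv_mem hg) _ hg
      rw [inv_mul_cancel, hφ1] at h3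
      have h4 : φ (g : G)⁻¹ = φ (g : G) := by
        calc φ (g : G)⁻¹ = vadd (φ (g : G)⁻¹) (vadd (φ (g : G)) (φ (g : G))) := by rw [vadd_self, vadd_zero]
          _ = vadd (vadd (φ (g : G)⁻¹) (φ (g : G))) (φ (g : G)) := (vadd_assoc _ _ _).symm
          _ = φ (g : G) := by rw [← h3, vadd_comm, vadd_zero]
      rw [h2, hmul _ hg _ (hpre v), h4, vadd_comm (φ (g : G)), vadd_assoc, vadd_self, vadd_zero, hφpre]
    haveI : IsSimpleGroup (Cfsg.PSp 2 F) := H48.isSimpleGroup_psp
      (Or.inr (Or.inl ⟨by simp, by have := B.card_F; omega⟩))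
    let N : Subgroup (Cfsg.PSp 2 F) := ρ.ker.map π
    have hN : N.Normal := Subgroup.Normal.map inferInstance π B.π_surj
    rcases hN.eq_bot_or_eq_top with hb | ht
    · intro g
      refine ⟨fun e => (B.π_ker g).1 ?_, hJker g⟩
      have : π g ∈ N := Subgroup.mem_map_of_mem π e
      rwa [hb, Subgroup.mem_bot] at this
    · exfalso
      have hall : ∀ g : Hc, ρ g = 1 := fun g => by
        have : π g ∈ N := by rw [ht]; exact Subgroup.mem_top _
        obtain ⟨k, hk, e⟩ := Subgroup.mem_map.1 this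
        have h1 : ρ (g * k⁻¹) = 1 := hJker _ ((B.π_ker _).1 (by rw [map_mul, map_inv, e, mul_inv_cancel]))
        rw [map_mul, map_inv, MonoidHom.mem_ker.1 hk, inv_one, mul_one] at h1
        exact h1
      -- then every element fixes every coset
      have hfix : ∀ g ∈ Subgroup.centralizer ({z} : Set G), ∀ j ∈ J,
          g * j * g⁻¹ = j ∨ g * j * g⁻¹ = j * z := fun g hg j hj => by
        have e : φ j = φ (g * j * g⁻¹) := by
          rw [hact ⟨g, hg⟩ j hj, ← hρ, hall]; rfl
        exact heq _ hj _ (B.conj_mem _ hg _ hj) e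
      exact not_trivial_action B hfix
  have hiso : ∀ g : Hc, IsIso s (ρ g) := by
    intro g
    have hadd : ∀ a b, ρ g (vadd a b) = vadd (ρ g a) (ρ g b) := fun a b => by
      obtain ⟨x, hx, rfl⟩ := (⟨pre a, hpre a, hφpre a⟩ : ∃ x ∈ J, φ x = a)
      obtain ⟨y, hy, rfl⟩ := (⟨pre b, hpre b, hφpre b⟩ : ∃ y ∈ J, φ y = b)
      rw [hρ, hρ, hρ, ← hmul _ hx _ hy, ← hact g _ (mul_mem hx hy), ← hact g _ hx, ← hact g _ hy,
        ← hmul _ (B.conj_mem _ g.2 _ hx) _ (B.conj_mem _ g.2 _ hy)]
      congr 1; group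
    have hpol : ∀ a b, polF (ρ g a) (ρ g b) = polF a b := fun a b => by
      rw [← hφpre a, ← hφpre b, hρ, hρ, ← hact g _ (hpre a), ← hact g _ (hpre b),
        ← hcb _ (B.conj_mem _ g.2 _ (hpre a)) _ (B.conj_mem _ g.2 _ (hpre b)), ← hcb _ (hpre a) _ (hpre b)]
      unfold cb
      refine decide_eq_decide.2 (not_congr ?_)
      rw [show (g : G) * pre a * (g : G)⁻¹ * ((g : G) * pre b * (g : G)⁻¹) =
        (g : G) * (pre a * pre b) * (g : G)⁻¹ by group,
        show (g : G) * pre b * (g : G)⁻¹ * ((g : G) * pre a * (g : G)⁻¹) =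
        (g : G) * (pre b * pre a) * (g : G)⁻¹ by group]
      rw [mul_left_inj, mul_right_inj]
    have hu : ∀ i, i = 6 ∨ i = 7 → ρ g (img p.val i) = img p.val i := by
      intro i hi
      have hiU : ε i ∈ U := by rcases hi with rfl | rfl <;> assumption
      have hi8 : i < 8 := by omega
      have e : φ (ε i) = img p.val i := by
        show chg p.val _ = _
        rw [coord0_unit hpat hi8]; exact lin_im p ⟨i, hi8⟩
      rw [← e, hρ, ← hact g _ (hε i hi8)]
      rcases X.fix _ g.2 _ hiU with e1 | e1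
      · rw [e1]
      · rw [e1, hmul _ (hε i hi8) _ B.z_mem, (hker z B.z_mem).2 (Or.inr rfl), vadd_zero]
    have h0 : ρ g 0 = 0 := by
      have := hadd 0 0
      rw [vadd_self, vadd_self] at this
      exact this
    have hhigh : ∀ a : V, a.val % 64 = 0 → ρ g a = a := by
      intro a ha
      obtain ⟨c, d, e⟩ := img_high p ⟨a.val / 64, by omega⟩
      have ea : (⟨a.val / 64 * 64, by omega⟩ : V) = a := Fin.ext (by show a.val / 64 * 64 = a.val; omega)
      rw [ea] at e
      rw [e, hadd]
      cases c <;> cases d <;> simp only [if_true, Bool.false_eq_true, if_false, h0, hu 6 (Or.inl rfl),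
        hu 7 (Or.inr rfl)]
    refine ⟨hadd, hhigh, fun a ha => ?_, fun a ha => ?_⟩
    · obtain ⟨h6, h7⟩ := (low_iff a).1 ha
      rw [low_iff, ← hhigh 64 (by decide), ← hhigh 128 (by decide), hpol, hpol]
      exact ⟨h6, h7⟩
    · have hl : (ρ g a).val < 64 := by
        obtain ⟨h6, h7⟩ := (low_iff a).1 ha
        rw [low_iff, ← hhigh 64 (by decide), ← hhigh 128 (by decide), hpol, hpol]
        exact ⟨h6, h7⟩
      have e1 : qt s m (ρ g a) = qt s m a := by
        rw [← hφpre a, hρ, ← hact g _ (hpre a), hq _ (B.conj_mem _ g.2 _ (hpre a)), hq _ (hpre a)]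
        unfold qb
        refine decide_eq_decide.2 (not_congr ?_)
        rw [show (g : G) * pre a * (g : G)⁻¹ * ((g : G) * pre a * (g : G)⁻¹) =
          (g : G) * (pre a * pre a) * (g : G)⁻¹ by group, conj_eq_one_iff]
      simpa [qt, plane_low m _ hl, plane_low m _ ha] using e1
  have hkerEq : ρ.ker = π.ker := Subgroup.ext fun g => by
    rw [MonoidHom.mem_ker, MonoidHom.mem_ker, hρker, B.π_ker]
  let E : ρ.range ≃* Cfsg.PSp 2 F :=
    (QuotientGroup.quotientKerEquivRange ρ).symm.trans
      ((QuotientGroup.quotientMulEquivOfEq hkerEq).trans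
        (QuotientGroup.quotientKerEquivOfSurjective π B.π_surj))
  have hJc : Nat.card π.ker = 2 ^ 9 := by
    rw [← B.card_J]
    refine Nat.card_congr ⟨fun g => ⟨((g : Hc) : G), (B.π_ker g.1).1 g.2⟩,
      fun j => ⟨⟨j.1, B.le_cent j.2⟩, (B.π_ker _).2 j.2⟩, fun g => rfl, fun j => rfl⟩
  have hcard : Nat.card ρ.range = 25920 := by
    have h1 := Subgroup.card_mul_index ρ.ker
    rw [Subgroup.index_ker, hkerEq, hJc] at h1
    have h2 : Nat.card Hc = 2 ^ 9 * 25920 := B.card_cent
    rw [h2] at h1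
    exact Nat.eq_of_mul_eq_mul_left (by norm_num) h1
  have hle : ρ.range ≤ isoGroup s := by
    rintro _ ⟨g, rfl⟩
    exact hiso g
  have hs : s = true := by
    by_contra e
    rw [Bool.not_eq_true] at e
    exact no_plus _ (e ▸ hle) hcard
  haveI : IsSimpleGroup (Cfsg.PSp 2 F) := H48.isSimpleGroup_psp
    (Or.inr (Or.inl ⟨by simp, by have := B.card_F; omega⟩))
  haveI : Nontrivial ρ.range := by
    rw [← Finite.one_lt_card_iff_nontrivial, hcard]; norm_num
  have hsimp : IsSimpleGroup ρ.range :=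
    IsSimpleGroup.isSimpleGroup_of_surjective E.symm.toMonoidHom E.symm.surjective
  have hq8 : ∀ v, qt s m v = q8 m v := fun v => by rw [hs]; rfl
  have hp8 : ∀ a b, pol8 m a b = polF a b := fun a b => by
    rw [pol8, ← hq8, ← hq8, ← hq8, qt_add]
    cases qt s m a <;> cases qt s m b <;> cases polF a b <;> rfl
  refine ⟨m, φ, ρ, ?_⟩
  exact
    { sq := B.sq
      ne_one := B.ne_one
      le_cent := B.le_cent
      z_mem := B.z_mem
      card_J := B.card_J
      conj_mem := B.conj_mem
      φ_mul := hmul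
      φ_surj := fun v => ⟨pre v, hpre v, hφpre v⟩
      φ_ker := hker
      φ_sq := fun a ha => by rw [← hq8, hq a ha]; exact sq_eq h ha
      φ_comm := fun a ha b hb => by rw [hp8, ← hcb a ha b hb]; exact comm_eq h ha hb
      ρ_φ := fun g j hj => hact g j hj
      ρ_ker := hρker
      ρ_range := eq_oGroup _ (hs ▸ hle) hcard hsimp
      card_cent := B.card_cent }

end H46.U6C
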