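import Cfsg.Agent.H46.U6C.Model

/-!
The change of coordinates taking the squares on a symplectic basis to one of the standard forms.
-/

set_option autoImplicit false
set_option maxRecDepth 100000

namespace H46.U6C

open H38.U6C

/-- The alternating form on all eight bits. -/
def polF (a b : V) : Bool :=
  ((((bit8 a 0 && bit8 b 1) != (bit8 a 1 && bit8 b 0)) !=
    ((bit8 a 2 && bit8 b 3) != (bit8 a 3 && bit8 b 2))) !=
    ((bit8 a 4 && bit8 b 5) != (bit8 a 5 && bit8 b 4))) != ((bit8 a 6 && bit8 b 7) != (bit8 a 7 && bit8 b 6))

/-- The form on the plane. -/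
def plane (m : Bool) (a : V) : Bool := if m then bit8 a 6 || bit8 a 7 else bit8 a 6 && bit8 a 7

/-- The target forms. -/
def qt (s m : Bool) (a : V) : Bool := qm s a != plane m a

theorem qt_add (s m : Bool) (a b : V) :
    qt s m (vadd a b) = ((qt s m a != qt s m b) != polF a b) := by
  have key : ∀ m x0 x1 y0 y1 : Bool,
      (if m then (x0 != y0) || (x1 != y1) else (x0 != y0) && (x1 != y1)) =
      (((if m then x0 || x1 else x0 && x1) != (if m then y0 || y1 else y0 && y1)) !=
        ((x0 && y1) != (x1 && y0))) := by decide
  have shuffle : ∀ x y p a b c P : Bool, p = (x != (y != P)) →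
      ((p != ((a != b) != c)) = (((y != a) != (P != b)) != (x != c))) := by decide
  have hp : qm s (vadd a b) = (polm s a b != (qm s a != qm s b)) := by
    unfold polm; cases qm s (vadd a b) <;> cases qm s a <;> cases qm s b <;> rfl
  simp only [qt, plane, bit8_vadd, key]
  rw [shuffle _ _ _ _ _ _ _ hp, polm_formula]
  rfl

theorem polF_comm (a b : V) : polF a b = polF b a := by
  have key : ∀ a0 a1 b0 b1 : Bool, ((a0 && b1) != (a1 && b0)) = ((b0 && a1) != (b1 && a0)) := by decide
  unfold polF
  rw [key (bit8 a 0), key (bit8 a 2), key (bit8 a 4), key (bit8 a 6)]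

theorem polF_add (a x y : V) : polF a (vadd x y) = (polF a x != polF a y) := by
  have key : ∀ a0 a1 x0 x1 y0 y1 : Bool, ((a0 && (x1 != y1)) != (a1 && (x0 != y0))) =
      (((a0 && x1) != (a1 && x0)) != ((a0 && y1) != (a1 && y0))) := by decide
  have shuffle : ∀ x y z w x' y' z' w' : Bool,
      (((((x != x') != (y != y')) != (z != z')) != (w != w')) =
        ((((x != y) != z) != w) != (((x' != y') != z') != w'))) := by decide
  simp only [polF, bit8_vadd, key]
  exact shuffle _ _ _ _ _ _ _ _

theorem polF_add_left (x y a : V) : polF (vadd x y) a = (polF x a != polF y a) := by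
  rw [polF_comm, polF_add, polF_comm a x, polF_comm a y]

/-- The basis vectors. -/
def unit8 (j : ℕ) : V := ⟨2 ^ j % 256, Nat.mod_lt _ (by norm_num)⟩

/-- The linear map with the given images of the basis. -/
def lin (im : ℕ → V) (v : V) : V :=
  ((List.range 8).map fun j => if bit8 v j then im j else 0).foldr vadd 0

theorem lin_unit : ∀ v : V, lin unit8 v = v := by decide +kernel

theorem vadd_swap (a b c d : V) : vadd (vadd a b) (vadd c d) = vadd (vadd a c) (vadd b d) :=
  ext8 fun i _ => by
    simp only [bit8_vadd]
    cases bit8 a i <;> cases bit8 b i <;> cases bit8 c i <;> cases bit8 d i <;> rfl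

theorem lin_add (im : ℕ → V) (a b : V) : lin im (vadd a b) = vadd (lin im a) (lin im b) := by
  unfold lin
  induction List.range 8 with
  | nil => exact (vadd_self 0).symm
  | cons j l ih =>
    simp only [List.map_cons, List.foldr_cons]
    rw [ih, vadd_swap]
    congr 1
    rw [bit8_vadd]
    cases bit8 a j <;> cases bit8 b j <;> simp [vadd_self, vadd_zero, vadd_comm (0 : V)]

theorem eq_of_unit {f g : V → V} (hf : ∀ a b, f (vadd a b) = vadd (f a) (f b))
    (hg : ∀ a b, g (vadd a b) = vadd (g a) (g b)) (h : ∀ j < 8, f (unit8 j) = g (unit8 j)) (a : V) :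
    f a = g a := by
  have h0 : f 0 = g 0 := by
    have e1 := hf 0 0
    have e2 := hg 0 0
    rw [vadd_self, vadd_self] at e1 e2
    rw [e1, e2]
  rw [← lin_unit a]
  unfold lin
  have hl : ∀ j ∈ List.range 8, j < 8 := fun j hj => List.mem_range.1 hj
  generalize List.range 8 = l at hl
  induction l with
  | nil => exact h0
  | cons j l ih =>
    rw [List.map_cons, List.foldr_cons, hf, hg, ih fun i hi => hl i (List.mem_cons_of_mem _ hi)]
    congr 1
    split_ifs
    · exact h j (hl j List.mem_cons_self)
    · exact h0

theorem additive_eq {f g : V → Bool} (hf : ∀ a b, f (vadd a b) = (f a != f b))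
    (hg : ∀ a b, g (vadd a b) = (g a != g b)) (h : ∀ j < 8, f (unit8 j) = g (unit8 j)) (a : V) :
    f a = g a := by
  have h0 : f 0 = g 0 := by
    have e1 := hf 0 0
    have e2 := hg 0 0
    rw [vadd_self, bne_self_eq_false] at e1 e2
    rw [e1, e2]
  rw [← lin_unit a]
  unfold lin
  have hl : ∀ j ∈ List.range 8, j < 8 := fun j hj => List.mem_range.1 hj
  generalize List.range 8 = l at hl
  induction l with
  | nil => exact h0
  | cons j l ih =>
    rw [List.map_cons, List.foldr_cons, hf, hg, ih fun i hi => hl i (List.mem_cons_of_mem _ hi)]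
    congr 1
    split_ifs
    · exact h j (hl j List.mem_cons_self)
    · exact h0

/-- Two functions with the same alternating form agree if they agree on the basis. -/
theorem quad_eq {f g : V → Bool} (hf : ∀ a b, f (vadd a b) = ((f a != f b) != polF a b))
    (hg : ∀ a b, g (vadd a b) = ((g a != g b) != polF a b)) (h : ∀ j < 8, f (unit8 j) = g (unit8 j))
    (a : V) : f a = g a := by
  have key : ∀ p q r s t : Bool, (((p != q) != t) != ((r != s) != t)) = ((p != r) != (q != s)) := by
    decide
  have := additive_eq (f := fun v => f v != g v) (g := fun _ => false)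
    (fun x y => by simp only [hf, hg]; exact key _ _ _ _ _) (fun _ _ => rfl)
    (fun j hj => by simp only [h j hj, bne_self_eq_false]) a
  revert this
  cases f a <;> cases g a <;> simp

/-- The images of the basis for the six low bits, six bits for each. -/
def tabLow : List ℕ := [
    34630287489, 34630287427, 34630287553, 65169879875, 34629271681, 34629271619, 34629271745, 59717219139,
    34631336065, 34631336003, 34631336129, 64075166531, 65167999105, 65167999043, 65167999169, 34631086915,
    17987289217, 17987289155, 17987289281, 47520248643, 17986273409, 17986273347, 17986273473, 42151473987,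
    17988337793, 17988337731, 17988337857, 46442312515, 47518367873, 47518367811, 47518367937, 17988088643,
    51810156673, 51810156611, 51810156737, 17925239619, 51809140865, 51809140803, 51809140929, 17841288003,
    51811205249, 51811205187, 51811205313, 17904268099, 17923358849, 17923358787, 17923358913, 51810956099,
    34630287489, 34630287427, 34630287553, 11937055555, 34629271681, 34629271619, 34629271745, 42277303107,
    34631336065, 34631336003, 34631336129, 29118759747, 47728083073, 47728083011, 47728083137, 34631086915]

/-- The squares of the basis as one number. -/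
def img (p j : ℕ) : V :=
  if j < 6 then ⟨(tabLow.getD (p % 64) 0 / 64 ^ j % 64) % 256, Nat.mod_lt _ (by norm_num)⟩
  else if p / 64 % 4 = 1 then (if j = 6 then 192 else 128)
  else if p / 64 % 4 = 2 then (if j = 6 then 64 else 192)
  else (if j = 6 then 64 else 128)

/-- The type of the part in six dimensions. -/
def sType (p : ℕ) : Bool := ((p.testBit 0 && p.testBit 1) != (p.testBit 2 && p.testBit 3)) !=
  (p.testBit 4 && p.testBit 5)

/-- The type of the plane. -/
def mType (p : ℕ) : Bool := p.testBit 6 && p.testBit 7

theorem img_spec : ∀ p : Fin 256, ∀ i : Fin 8,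
    qt (sType p.val) (mType p.val) (img p.val i.val) = p.val.testBit i.val ∧
    ∀ j : Fin 8, polF (img p.val i.val) (img p.val j.val) = polF (unit8 i.val) (unit8 j.val) := by
  decide +kernel

theorem img_high : ∀ p : Fin 256, ∀ x : Fin 4,
    ∃ c d : Bool, (⟨x.val * 64, by omega⟩ : V) = vadd (if c then img p.val 6 else 0) (if d then img p.val 7 else 0) := by
  decide +kernel

theorem low_iff : ∀ v : V, v.val < 64 ↔ polF v 64 = false ∧ polF v 128 = false := by decide +kernel

theorem polF_nondeg : ∀ v : V, v = 0 ∨ ∃ j : Fin 8, polF v (unit8 j.val) = true := by decide +kernel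

theorem plane_low : ∀ m, ∀ v : V, v.val < 64 → plane m v = false := by decide +kernel

/-- The coordinate change. -/
def chg (p : ℕ) : V → V := lin (img p)

theorem lin_im : ∀ p : Fin 256, ∀ j : Fin 8, chg p.val (unit8 j.val) = img p.val j.val := by
  decide +kernel

theorem chg_polF (p : Fin 256) (a b : V) : polF (chg p.val a) (chg p.val b) = polF a b := by
  refine additive_eq (f := fun x => polF (chg p.val x) (chg p.val b)) (g := fun x => polF x b)
    (fun x y => by rw [chg, lin_add, polF_add_left]) (fun x y => polF_add_left x y b) (fun i hi => ?_) a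
  refine additive_eq (f := fun y => polF (chg p.val (unit8 i)) (chg p.val y))
    (g := fun y => polF (unit8 i) y) (fun x y => by rw [chg, lin_add, polF_add])
    (fun x y => polF_add _ x y) (fun j hj => ?_) b
  rw [lin_im p ⟨i, hi⟩, lin_im p ⟨j, hj⟩]
  exact (img_spec p ⟨i, hi⟩).2 ⟨j, hj⟩

theorem chg_injective (p : Fin 256) : Function.Injective (chg p.val) := by
  intro a b h
  have hz : vadd a b = 0 := by
    rcases polF_nondeg (vadd a b) with h' | ⟨j, hj⟩
    · exact h'
    · rw [← chg_polF p, chg, lin_add, show lin (img p.val) a = lin (img p.val) b from h, vadd_self] at hj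
      simp [polF, bit8] at hj
  calc a = vadd a (vadd b b) := by rw [vadd_self, vadd_zero]
    _ = vadd (vadd a b) b := (vadd_assoc a b b).symm
    _ = b := by rw [hz, vadd_comm, vadd_zero]

theorem chg_bijective (p : Fin 256) : Function.Bijective (chg p.val) :=
  Finite.injective_iff_bijective.1 (chg_injective p)

theorem qt_of_squares (p : Fin 256) {f : V → Bool}
    (hf : ∀ a b, f (vadd a b) = ((f a != f b) != polF a b))
    (h : ∀ j < 8, f (unit8 j) = p.val.testBit j) (a : V) :
    qt (sType p.val) (mType p.val) (chg p.val a) = f a := by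
  refine quad_eq (f := fun x => qt (sType p.val) (mType p.val) (chg p.val x)) (fun x y => ?_) hf
    (fun j hj => ?_) a
  · rw [← chg_polF p x y, ← qt_add, chg, lin_add]
  · rw [h j hj, lin_im p ⟨j, hj⟩]
    exact (img_spec p ⟨j, hj⟩).1

end H46.U6C
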