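import Cfsg.Agent.H46.U6C.Chg

/-!
A symplectic basis of an extraspecial group of order `2 ^ 9`, beginning with a given nondegenerate
subgroup of order eight.
-/

set_option autoImplicit false

namespace H46.U6C

open H38.U6C
open scoped Classical

universe u

variable {G : Type u} [Group G]

/-- The commutator as a bit. -/
noncomputable def cb (a b : G) : Bool := decide (¬ a * b = b * a)

/-- The square as a bit. -/
noncomputable def qb (a : G) : Bool := decide (¬ a * a = 1)

/-- The facts used about the core. -/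
structure Ext (z : G) (J : Subgroup G) : Prop where
  sq : z * z = 1
  ne_one : z ≠ 1
  z_mem : z ∈ J
  comm_z : ∀ a ∈ J, z * a = a * z
  card_J : Nat.card J = 2 ^ 9
  sq_mem : ∀ a ∈ J, a * a = 1 ∨ a * a = z
  comm_mem : ∀ a ∈ J, ∀ b ∈ J, a * b = b * a ∨ a * b = b * a * z
  center : ∀ a ∈ J, (∀ b ∈ J, Commute a b) → a = 1 ∨ a = z

variable {z : G} {J : Subgroup G}

theorem bit_eq (h : Ext z J) {t u : Bool} {g : G}
    (e : g * (if t then z else 1) = g * if u then z else 1) : t = u := by
  have := mul_left_cancel e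
  cases t <;> cases u
  · rfl
  · exact absurd this.symm (by simpa using h.ne_one)
  · exact absurd this (by simpa using h.ne_one)
  · rfl

theorem comm_eq (h : Ext z J) {a b : G} (ha : a ∈ J) (hb : b ∈ J) :
    a * b = b * a * if cb a b then z else 1 := by
  unfold cb
  by_cases e : a * b = b * a
  · simp [e]
  · simpa [e] using (h.comm_mem a ha b hb).resolve_left e

theorem sq_eq (h : Ext z J) {a : G} (ha : a ∈ J) : a * a = if qb a then z else 1 := by
  unfold qb
  by_cases e : a * a = 1
  · simp [e]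
  · simpa [e] using (h.sq_mem a ha).resolve_left e

theorem bit_comm (h : Ext z J) {a : G} (ha : a ∈ J) (t : Bool) :
    a * (if t then z else 1) = (if t then z else 1) * a := by
  cases t
  · simp
  · simpa using (h.comm_z a ha).symm

theorem bit_mul (h : Ext z J) (t u : Bool) :
    (if t then z else 1) * (if u then z else 1) = if (t != u) then z else 1 := by
  cases t <;> cases u <;> simp [h.sq]

theorem cb_comm (a b : G) : cb a b = cb b a := by
  unfold cb; exact decide_eq_decide.2 (not_congr eq_comm)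

theorem cb_self (a : G) : cb a a = false := by simp [cb]

theorem cb_z (h : Ext z J) {a : G} (ha : a ∈ J) : cb a z = false := by
  simp [cb, h.comm_z a ha]

theorem cb_one (a : G) : cb a 1 = false := by simp [cb]

theorem cb_mul (h : Ext z J) {a b c : G} (ha : a ∈ J) (hb : b ∈ J) (hc : c ∈ J) :
    cb a (b * c) = (cb a b != cb a c) := by
  refine bit_eq h (g := b * c * a) ?_
  rw [← comm_eq h ha (mul_mem hb hc), ← bit_mul h, ← mul_assoc a b c, comm_eq h ha hb,
    mul_assoc (b * a) (if cb a b then z else 1) c, ← bit_comm h hc, ← mul_assoc (b * a) c,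
    mul_assoc b a c, comm_eq h ha hc, ← mul_assoc b (c * a), ← mul_assoc b c a, mul_assoc (b * c * a),
    bit_mul h, bit_mul h]
  cases cb a b <;> cases cb a c <;> rfl

theorem cb_mul_left (h : Ext z J) {a b c : G} (ha : a ∈ J) (hb : b ∈ J) (hc : c ∈ J) :
    cb (b * c) a = (cb b a != cb c a) := by
  rw [cb_comm, cb_mul h ha hb hc, cb_comm a b, cb_comm a c]

theorem cb_inv (h : Ext z J) {a b : G} (ha : a ∈ J) (hb : b ∈ J) : cb a b⁻¹ = cb a b := by
  have := cb_mul h ha hb (inv_mem hb)
  rw [mul_inv_cancel, cb_one] at this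
  revert this
  cases cb a b <;> cases cb a b⁻¹ <;> simp

theorem qb_mul (h : Ext z J) {a b : G} (ha : a ∈ J) (hb : b ∈ J) :
    qb (a * b) = ((qb a != qb b) != cb a b) := by
  refine bit_eq h (g := 1) ?_
  rw [one_mul, one_mul, ← sq_eq h (mul_mem ha hb), ← bit_mul h, ← bit_mul h, ← sq_eq h ha,
    ← sq_eq h hb, mul_assoc a b, ← mul_assoc b a b, comm_eq h hb ha, cb_comm b a,
    mul_assoc (a * b) _ b, ← bit_comm h hb]
  simp only [mul_assoc]

theorem qb_one : qb (1 : G) = false := by simp [qb]

theorem qb_z (h : Ext z J) : qb z = false := by simp [qb, h.sq]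

/-- Mutually commuting pairs of noncommuting elements. -/
structure Pairs (J : Subgroup G) (k : ℕ) (e : ℕ → G) : Prop where
  mem : ∀ i < 2 * k, e i ∈ J
  pat : ∀ i < 2 * k, ∀ j < 2 * k, cb (e i) (e j) = decide (i / 2 = j / 2 ∧ i ≠ j)

theorem pairs_down {k : ℕ} {e : ℕ → G} (hp : Pairs J (k + 1) e) : Pairs J k e :=
  ⟨fun i hi => hp.mem i (by omega), fun i hi j hj => hp.pat i (by omega) j (by omega)⟩

theorem exists_corr (h : Ext z J) : ∀ (k : ℕ) {e : ℕ → G}, Pairs J k e → ∀ a ∈ J,
    ∃ a' ∈ J, (∀ i < 2 * k, cb a' (e i) = false) ∧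
      ∀ x ∈ J, (∀ i < 2 * k, cb x (e i) = false) → cb x a' = cb x a
  | 0, _, _, a, ha => ⟨a, ha, fun i hi => absurd hi (by omega), fun _ _ _ => rfl⟩
  | k + 1, e, hp, a, ha => by
    obtain ⟨a', ha', hc, hx⟩ := exists_corr h k (pairs_down hp) a ha
    set f : G := if cb a' (e (2 * k + 1)) then e (2 * k) else 1 with hf
    set g : G := if cb a' (e (2 * k)) then e (2 * k + 1) else 1 with hg
    have hfm : f ∈ J := by rw [hf]; split; exacts [hp.mem _ (by omega), one_mem _]
    have hgm : g ∈ J := by rw [hg]; split; exacts [hp.mem _ (by omega), one_mem _]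
    refine ⟨a' * f * g, mul_mem (mul_mem ha' hfm) hgm, fun i hi => ?_, fun x hxJ hxc => ?_⟩
    · have hi' := hp.mem i hi
      rw [cb_mul_left h hi' (mul_mem ha' hfm) hgm, cb_mul_left h hi' ha' hfm]
      have h1 : cb (1 : G) (e i) = false := by rw [cb_comm]; exact cb_one _
      have e1 : cb f (e i) = (cb a' (e (2 * k + 1)) && cb (e (2 * k)) (e i)) := by
        rw [hf]; cases cb a' (e (2 * k + 1)) <;> simp [h1]
      have e2 : cb g (e i) = (cb a' (e (2 * k)) && cb (e (2 * k + 1)) (e i)) := by
        rw [hg]; cases cb a' (e (2 * k)) <;> simp [h1]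
      rw [e1, e2, hp.pat _ (by omega) i hi, hp.pat _ (by omega) i hi]
      rcases lt_trichotomy i (2 * k) with hlt | rfl | hgt
      · rw [hc i hlt, decide_eq_false (show ¬ (2 * k / 2 = i / 2 ∧ 2 * k ≠ i) by omega),
          decide_eq_false (show ¬ ((2 * k + 1) / 2 = i / 2 ∧ 2 * k + 1 ≠ i) by omega)]
        simp
      · rw [decide_eq_false (show ¬ (2 * k / 2 = 2 * k / 2 ∧ 2 * k ≠ 2 * k) by omega),
          decide_eq_true (show (2 * k + 1) / 2 = 2 * k / 2 ∧ 2 * k + 1 ≠ 2 * k by omega)]
        simp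
      · obtain rfl : i = 2 * k + 1 := by omega
        rw [decide_eq_true (show 2 * k / 2 = (2 * k + 1) / 2 ∧ 2 * k ≠ 2 * k + 1 by omega),
          decide_eq_false (show ¬ ((2 * k + 1) / 2 = (2 * k + 1) / 2 ∧ 2 * k + 1 ≠ 2 * k + 1) by omega)]
        simp
    · rw [cb_mul h hxJ (mul_mem ha' hfm) hgm, cb_mul h hxJ ha' hfm, hx x hxJ fun i hi => hxc i (by omega)]
      have e1 : cb x f = false := by
        rw [hf]; split; exacts [hxc _ (by omega), cb_one x]
      have e2 : cb x g = false := by
        rw [hg]; split; exacts [hxc _ (by omega), cb_one x]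
      rw [e1, e2]
      cases cb x a <;> rfl

theorem extend (h : Ext z J) [Finite G] {k : ℕ} (hk : k ≤ 3) {e : ℕ → G} (hp : Pairs J k e) :
    ∃ e' : ℕ → G, Pairs J (k + 1) e' ∧ ∀ i < 2 * k, e' i = e i := by
  haveI : Fintype G := Fintype.ofFinite G
  obtain ⟨c, hcJ, hc, hc1, hcz⟩ : ∃ c ∈ J, (∀ i < 2 * k, cb c (e i) = false) ∧ c ≠ 1 ∧ c ≠ z := by
    by_contra hno
    push Not at hno
    let Φ : J → (Fin (2 * k) → Bool) := fun a i => cb (a : G) (e i)
    have hfib : ∀ f ∈ (Finset.univ : Finset J).image Φ,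
        ((Finset.univ : Finset J).filter fun a => Φ a = f).card ≤ 2 := by
      intro f hf
      obtain ⟨a, -, rfl⟩ := Finset.mem_image.1 hf
      refine (Finset.card_le_card (t := {a, a * ⟨z, h.z_mem⟩}) fun b hb => ?_).trans
        (Finset.card_le_two)
      simp only [Finset.mem_filter, Finset.mem_univ, true_and] at hb
      have hd : ∀ i < 2 * k, cb ((a : G)⁻¹ * (b : G)) (e i) = false := fun i hi => by
        have := congrFun hb ⟨i, hi⟩
        simp only [Φ] at this
        rw [cb_mul_left h (hp.mem i hi) (inv_mem a.2) b.2, cb_comm (a : G)⁻¹,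
          cb_inv h (hp.mem i hi) a.2, cb_comm (e i), this, bne_self_eq_false]
      rcases (em ((a : G)⁻¹ * (b : G) = 1)) with e1 | e1
      · simp [Subtype.ext_iff, (inv_mul_eq_one.1 e1)]
      · have := hno _ (mul_mem (inv_mem a.2) b.2) hd e1
        simp [Subtype.ext_iff, inv_mul_eq_iff_eq_mul.1 this]
    have hle := Finset.card_le_mul_card_image (Finset.univ : Finset J) 2 hfib
    have h1 : ((Finset.univ : Finset J).image Φ).card ≤ 2 ^ (2 * k) := by
      refine (Finset.card_le_univ _).trans ?_
      simp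
    have h2 : (Finset.univ : Finset J).card = 512 := by
      rw [Finset.card_univ, ← Nat.card_eq_fintype_card, h.card_J]; norm_num
    have h3 : 2 ^ (2 * k) ≤ 64 := le_trans (Nat.pow_le_pow_right (by norm_num) (by omega : 2 * k ≤ 6)) (by norm_num)
    omega
  obtain ⟨b, hb, hnc⟩ : ∃ b ∈ J, cb c b = true := by
    by_contra hno
    push Not at hno
    rcases h.center c hcJ (fun b hb => by
      have := hno b hb
      simpa [cb, Commute, SemiconjBy] using this) with e1 | e1
    exacts [hc1 e1, hcz e1]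
  obtain ⟨d, hd, hdc, hdx⟩ := exists_corr h k hp b hb
  have hcd : cb c d = true := (hdx c hcJ hc).trans hnc
  refine ⟨Function.update (Function.update e (2 * k) c) (2 * k + 1) d, ⟨fun i hi => ?_, fun i hi j hj => ?_⟩,
    fun i hi => by
      rw [Function.update_of_ne (by omega), Function.update_of_ne (by omega)]⟩
  · rcases lt_trichotomy i (2 * k) with hlt | rfl | hgt
    · rw [Function.update_of_ne (by omega), Function.update_of_ne (by omega)]; exact hp.mem i hlt
    · rw [Function.update_of_ne (by omega), Function.update_self]; exact hcJ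
    · obtain rfl : i = 2 * k + 1 := by omega
      rw [Function.update_self]; exact hd
  · have val : ∀ i, i < 2 * (k + 1) → (i < 2 * k ∧ Function.update (Function.update e (2 * k) c)
        (2 * k + 1) d i = e i) ∨ (i = 2 * k ∧ Function.update (Function.update e (2 * k) c)
        (2 * k + 1) d i = c) ∨ (i = 2 * k + 1 ∧ Function.update (Function.update e (2 * k) c)
        (2 * k + 1) d i = d) := fun i hi => by
      rcases lt_trichotomy i (2 * k) with hlt | rfl | hgt
      · exact Or.inl ⟨hlt, by rw [Function.update_of_ne (by omega), Function.update_of_ne (by omega)]⟩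
      · exact Or.inr (Or.inl ⟨rfl, by rw [Function.update_of_ne (by omega), Function.update_self]⟩)
      · obtain rfl : i = 2 * k + 1 := by omega
        exact Or.inr (Or.inr ⟨rfl, Function.update_self ..⟩)
    rcases val i hi with ⟨hi', e1⟩ | ⟨hi', e1⟩ | ⟨hi', e1⟩ <;>
      rcases val j hj with ⟨hj', e2⟩ | ⟨hj', e2⟩ | ⟨hj', e2⟩ <;> rw [e1, e2]
    · exact hp.pat i hi' j hj'
    · rw [cb_comm, hc i hi']; exact (decide_eq_false (by omega)).symm
    · rw [cb_comm, hdc i hi']; exact (decide_eq_false (by omega)).symm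
    · rw [hc j hj']; exact (decide_eq_false (by omega)).symm
    · rw [cb_self]; exact (decide_eq_false (by omega)).symm
    · rw [hcd]; exact (decide_eq_true (by omega)).symm
    · rw [hdc j hj']; exact (decide_eq_false (by omega)).symm
    · rw [cb_comm, hcd]; exact (decide_eq_true (by omega)).symm
    · rw [cb_self]; exact (decide_eq_false (by omega)).symm

/-- Four pairs, the last being in `U`. -/
theorem exists_basis (h : Ext z J) [Finite G] {U : Subgroup G} (hU : U ≤ J) (hUc : Nat.card U = 8)
    (hnd : ∀ u ∈ U, (∀ v ∈ U, Commute u v) → u = 1 ∨ u = z) :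
    ∃ ε : ℕ → G, (∀ i < 8, ε i ∈ J) ∧ ε 6 ∈ U ∧ ε 7 ∈ U ∧
      ∀ i < 8, ∀ j < 8, cb (ε i) (ε j) = polF (unit8 i) (unit8 j) := by
  haveI : Fintype G := Fintype.ofFinite G
  obtain ⟨u, huU, hu1, huz⟩ : ∃ u ∈ U, u ≠ 1 ∧ u ≠ z := by
    by_contra hno
    push Not at hno
    have : Nat.card U ≤ 2 := by
      rw [Nat.card_eq_fintype_card, ← Finset.card_univ]
      refine le_trans (Finset.card_le_card_of_injOn (fun x : U => (x : G)) (t := {1, z}) (fun x _ => ?_)
        (Subtype.val_injective.injOn)) Finset.card_le_two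
      by_cases e : (x : G) = 1
      · simp [e]
      · simp [hno x x.2 e]
    omega
  obtain ⟨v, hvU, hnc⟩ : ∃ v ∈ U, cb u v = true := by
    by_contra hno
    push Not at hno
    rcases hnd u huU (fun v hv => by
      have := hno v hv
      simpa [cb, Commute, SemiconjBy] using this) with e1 | e1
    exacts [hu1 e1, huz e1]
  have hp1 : Pairs J 1 (fun i => if i = 0 then u else v) := by
    refine ⟨fun i hi => ?_, fun i hi j hj => ?_⟩
    · show (if i = 0 then u else v) ∈ J
      split; exacts [hU huU, hU hvU]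
    · interval_cases i <;> interval_cases j
      · simp [cb_self]
      · simpa using hnc
      · simpa [cb_comm v u] using hnc
      · simp [cb_self]
  obtain ⟨e2, hp2, h2⟩ := extend h (k := 1) (by omega) hp1
  obtain ⟨e3, hp3, h3⟩ := extend h (k := 2) (by omega) hp2
  obtain ⟨e4, hp4, h4⟩ := extend h (k := 3) (by omega) hp3
  have he : ∀ i < 2, e4 i = if i = 0 then u else v := fun i hi => by
    rw [h4 i (by omega), h3 i (by omega), h2 i (by omega)]
  refine ⟨fun i => e4 ((i + 2) % 8), fun i _ => hp4.mem _ (by omega), ?_, ?_, fun i hi j hj => ?_⟩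
  · show e4 0 ∈ U; rw [he 0 (by omega)]; exact huU
  · show e4 1 ∈ U; rw [he 1 (by omega)]; exact hvU
  · rw [hp4.pat _ (by omega) _ (by omega)]
    have key : ∀ i j : Fin 8, decide ((i.val + 2) % 8 / 2 = (j.val + 2) % 8 / 2 ∧
        (i.val + 2) % 8 ≠ (j.val + 2) % 8) = polF (unit8 i.val) (unit8 j.val) := by decide +kernel
    exact key ⟨i, hi⟩ ⟨j, hj⟩

end H46.U6C
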