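import Cfsg.Agent.H38.U6C.Fix8

/-!
The two quadratic forms in dimension six over the field with two elements, read on the low six bits
of `Fin 256`, and their isometry groups.
-/

set_option autoImplicit false
set_option maxRecDepth 100000

namespace H46.U6C

open H38.U6C

theorem bit8_vadd (a b : V) (i : ℕ) : bit8 (vadd a b) i = (bit8 a i != bit8 b i) := by
  have h : Nat.xor a.val b.val < 2 ^ 8 := Nat.xor_lt_two_pow a.isLt b.isLt
  show Nat.testBit (Nat.xor a.val b.val % 256) i = _
  rw [Nat.mod_eq_of_lt (lt_of_lt_of_eq h (by norm_num))]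
  exact Nat.testBit_xor a.val b.val i

theorem ext8 {a b : V} (h : ∀ i < 8, bit8 a i = bit8 b i) : a = b := by
  refine Fin.ext (Nat.eq_of_testBit_eq fun i => ?_)
  by_cases hi : i < 8
  · exact h i hi
  · have e : ∀ c : V, c.val.testBit i = false := fun c =>
      Nat.testBit_eq_false_of_lt (lt_of_lt_of_le c.isLt (Nat.pow_le_pow_right (n := 2) (by norm_num)
        (show 8 ≤ i by omega)))
    rw [e, e]

theorem vadd_comm (a b : V) : vadd a b = vadd b a := ext8 fun i _ => by
  rw [bit8_vadd, bit8_vadd]; cases bit8 a i <;> cases bit8 b i <;> rfl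

theorem vadd_assoc (a b c : V) : vadd (vadd a b) c = vadd a (vadd b c) := ext8 fun i _ => by
  simp only [bit8_vadd]; cases bit8 a i <;> cases bit8 b i <;> cases bit8 c i <;> rfl

theorem vadd_self (a : V) : vadd a a = 0 := ext8 fun i _ => by
  rw [bit8_vadd]; simp [bit8]

theorem vadd_zero (a : V) : vadd a 0 = a := ext8 fun i _ => by
  rw [bit8_vadd]; simp [bit8]

/-- The form of plus type. -/
def q6p (a : V) : Bool :=
  ((bit8 a 0 && bit8 a 1) != (bit8 a 2 && bit8 a 3)) != (bit8 a 4 && bit8 a 5)

/-- The forms; `true` stands for minus type. -/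
def qm (s : Bool) (a : V) : Bool := if s then q6 a else q6p a

/-- Their alternating forms. -/
def polm (s : Bool) (a b : V) : Bool := qm s (vadd a b) != (qm s a != qm s b)

theorem polm_formula (s : Bool) (a b : V) : polm s a b =
    ((((bit8 a 0 && bit8 b 1) != (bit8 a 1 && bit8 b 0)) !=
      ((bit8 a 2 && bit8 b 3) != (bit8 a 3 && bit8 b 2))) !=
      ((bit8 a 4 && bit8 b 5) != (bit8 a 5 && bit8 b 4))) := by
  have key : ∀ a0 a1 b0 b1 : Bool, (((a0 != b0) && (a1 != b1)) != ((a0 && a1) != (b0 && b1))) =
      ((a0 && b1) != (a1 && b0)) := by decide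
  have key' : ∀ a0 a1 b0 b1 : Bool, (((a0 != b0) || (a1 != b1)) != ((a0 || a1) != (b0 || b1))) =
      ((a0 && b1) != (a1 && b0)) := by decide
  have shuffle : ∀ x y z x' y' z' x'' y'' z'' : Bool,
      ((((x != y) != z) != (((x' != y') != z') != ((x'' != y'') != z''))) =
      (((x != (x' != x'')) != (y != (y' != y''))) != (z != (z' != z'')))) := by decide
  cases s
  · simp only [polm, qm, Bool.false_eq_true, if_false, q6p, bit8_vadd, shuffle, key]
  · simp only [polm, qm, if_true, q6, bit8_vadd, shuffle, key, key']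

theorem polm_comm (s : Bool) (a b : V) : polm s a b = polm s b a := by
  rw [polm, polm, vadd_comm]; cases qm s a <;> cases qm s b <;> rfl

theorem polm_add (s : Bool) (a x y : V) :
    polm s a (vadd x y) = (polm s a x != polm s a y) := by
  have key : ∀ a0 a1 x0 x1 y0 y1 : Bool, ((a0 && (x1 != y1)) != (a1 && (x0 != y0))) =
      (((a0 && x1) != (a1 && x0)) != ((a0 && y1) != (a1 && y0))) := by decide
  have shuffle : ∀ x y z x' y' z' : Bool,
      ((((x != x') != (y != y')) != (z != z')) = (((x != y) != z) != ((x' != y') != z'))) := by decide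
  simp only [polm_formula, bit8_vadd, key]
  exact shuffle _ _ _ _ _ _

/-- The reflections. -/
def refm (s : Bool) (a v : V) : V := if (a.val < 64 ∧ qm s a = true) ∧ polm s a v = true then vadd v a else v

theorem refm_true (a : V) : refm true a = refFun a := rfl

theorem refm_add (s : Bool) (a x y : V) :
    refm s a (vadd x y) = vadd (refm s a x) (refm s a y) := by
  unfold refm
  by_cases h : a.val < 64 ∧ qm s a = true
  · simp only [h, polm_add, and_self, true_and]
    cases polm s a x <;> cases polm s a y <;> simp only [Bool.false_eq_true, ↓reduceIte,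
      bne_self_eq_false, Bool.true_bne, Bool.false_bne, Bool.not_false, Bool.not_true]
    · rw [vadd_assoc]
    · rw [vadd_assoc, vadd_assoc, vadd_comm y a]
    · rw [vadd_assoc x a, ← vadd_assoc a y a, vadd_comm a y, vadd_assoc y a a, vadd_self, vadd_zero]
  · simp [h]

theorem qm_vadd (s : Bool) (a b : V) : qm s (vadd a b) = ((qm s a != qm s b) != polm s a b) := by
  unfold polm
  cases qm s (vadd a b) <;> cases qm s a <;> cases qm s b <;> rfl

theorem polm_self (s : Bool) (a : V) : polm s a a = false := by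
  rw [polm, vadd_self]
  cases s <;> cases qm _ a <;> rfl

theorem refm_invol : ∀ s a v, refm s a (refm s a v) = v := by
  intro s a v
  unfold refm
  by_cases h : (a.val < 64 ∧ qm s a = true) ∧ polm s a v = true
  · rw [if_pos h, if_pos ⟨h.1, by rw [polm_add, h.2, polm_self]; rfl⟩, vadd_assoc, vadd_self,
      vadd_zero]
  · rw [if_neg h, if_neg h]

/-- A reflection as a permutation. -/
def reflm (s : Bool) (a : V) : Equiv.Perm V :=
  ⟨refm s a, refm s a, refm_invol s a, refm_invol s a⟩

theorem refm_high : ∀ s a (v : V), v.val % 64 = 0 → refm s a v = v := by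
  have hs : ∀ s a, ∀ k : Fin 4, refm s a ⟨64 * k.val, by omega⟩ = ⟨64 * k.val, by omega⟩ := by
    decide +kernel
  intro s a v hv
  have hlt := v.isLt
  have h := hs s a ⟨v.val / 64, by omega⟩
  rwa [show (⟨64 * (v.val / 64), by omega⟩ : V) = v from Fin.ext (by simp only; omega)] at h
theorem refm_low : ∀ s a (v : V), v.val < 64 → (refm s a v).val < 64 := by
  intro s a v hv
  unfold refm
  split_ifs with h
  · exact lt_of_le_of_lt (Nat.mod_le _ _)
      (lt_of_lt_of_eq (Nat.xor_lt_two_pow (n := 6) (lt_of_lt_of_eq hv (by norm_num))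
        (lt_of_lt_of_eq h.1.1 (by norm_num))) (by norm_num))
  · exact hv
theorem refm_qm : ∀ s a (v : V), qm s (refm s a v) = qm s v := by
  intro s a v
  unfold refm
  split_ifs with h
  · rw [qm_vadd, polm_comm, h.2, h.1.2]
    cases qm s v <;> rfl
  · rfl

/-- Conditions on an isometry. -/
structure IsIso (s : Bool) (σ : Equiv.Perm V) : Prop where
  add : ∀ a b, σ (vadd a b) = vadd (σ a) (σ b)
  high : ∀ a : V, a.val % 64 = 0 → σ a = a
  low : ∀ a : V, a.val < 64 → (σ a).val < 64
  form : ∀ a : V, a.val < 64 → qm s (σ a) = qm s a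

theorem isIso_inv {s : Bool} {σ : Equiv.Perm V} (h : IsIso s σ) : IsIso s σ⁻¹ := by
  have e : σ⁻¹ = σ ^ (orderOf σ - 1) := by
    refine inv_eq_of_mul_eq_one_right ?_
    rw [← pow_succ', Nat.sub_add_cancel (orderOf_pos σ), pow_orderOf_eq_one]
  rw [e]
  generalize orderOf σ - 1 = n
  induction n with
  | zero => exact ⟨fun _ _ => rfl, fun _ _ => rfl, fun _ h => h, fun _ _ => rfl⟩
  | succ n ih =>
    rw [pow_succ']
    exact ⟨fun a b => by rw [Equiv.Perm.mul_apply, ih.add, h.add]; rfl,
      fun a ha => by rw [Equiv.Perm.mul_apply, ih.high a ha, h.high a ha],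
      fun a ha => h.low _ (ih.low a ha),
      fun a ha => (h.form _ (ih.low a ha)).trans (ih.form a ha)⟩

/-- The isometry group. -/
def isoGroup (s : Bool) : Subgroup (Equiv.Perm V) where
  carrier := {σ | IsIso s σ}
  one_mem' := ⟨fun _ _ => rfl, fun _ _ => rfl, fun _ h => h, fun _ _ => rfl⟩
  mul_mem' := fun {f g} (hf : IsIso s f) (hg : IsIso s g) =>
    ⟨fun a b => by rw [Equiv.Perm.mul_apply, hg.add, hf.add]; rfl,
      fun a ha => by rw [Equiv.Perm.mul_apply, hg.high a ha, hf.high a ha],
      fun a ha => hf.low _ (hg.low a ha),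
      fun a ha => (hf.form _ (hg.low a ha)).trans (hg.form a ha)⟩
  inv_mem' := fun {_} h => isIso_inv h

theorem reflm_mem (s : Bool) (a : V) : reflm s a ∈ isoGroup s :=
  ⟨refm_add s a, refm_high s a, refm_low s a, fun v _ => refm_qm s a v⟩

end H46.U6C
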